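import Groth.Prelude.Def_FGA
import Mathlib.AlgebraicGeometry.IdealSheaf.Functorial

/-!
# The Hilbert functor and base change of the base
-/

universe u

open CategoryTheory CategoryTheory.Limits AlgebraicGeometry

namespace Groth.Agent.H17.HilbBC

variable {X S : Scheme.{u}} (f : X ⟶ S)

theorem hilbPull_eq_comap {T T' : Over S} (g : T' ⟶ T) (I : (PicF.XT f T).IdealSheafData) :
    FGA.hilbPull f g I = I.comap (PicF.XTmap f g) := by
  show (pullback.snd I.subschemeι (PicF.XTmap f g)).ker =
    (pullback.fst (PicF.XTmap f g) I.subschemeι).ker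
  rw [← pullbackSymmetry_hom_comp_fst, Scheme.Hom.ker_comp_of_isIso]

/-- The pullback of an ideal sheaf along an isomorphism has isomorphic subscheme. -/
theorem exists_iso_comap {A B : Scheme.{u}} (φ : A ⟶ B) [IsIso φ] (I : B.IdealSheafData) :
    ∃ a : (I.comap φ).subscheme ≅ I.subscheme,
      (I.comap φ).subschemeι ≫ φ = a.hom ≫ I.subschemeι :=
  ⟨I.comapIso φ ≪≫ asIso (pullback.snd φ I.subschemeι), by
    rw [← Scheme.IdealSheafData.comapIso_hom_fst, Category.assoc, pullback.condition]
    simp⟩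

theorem hilb_mem_comap {A B T : Scheme.{u}} (φ : A ⟶ B) [IsIso φ] (I : B.IdealSheafData)
    (p : B ⟶ T) (hp : IsProper (I.subschemeι ≫ p) ∧ Flat (I.subschemeι ≫ p)) :
    IsProper ((I.comap φ).subschemeι ≫ φ ≫ p) ∧ Flat ((I.comap φ).subschemeι ≫ φ ≫ p) := by
  obtain ⟨a, ha⟩ := exists_iso_comap φ I
  obtain ⟨h1, h2⟩ := hp
  rw [reassoc_of% ha]
  exact ⟨inferInstance, inferInstance⟩

variable {S' : Scheme.{u}} (h : S' ⟶ S)

/-- An `S'`-scheme viewed over `S`. -/
noncomputable abbrev down (T : Over S') : Over S := Over.mk (T.hom ≫ h)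

/-- The two descriptions of the base change of `X` to an `S'`-scheme. -/
noncomputable def cmp (T : Over S') : PicF.XT (pullback.snd f h) T ≅ PicF.XT f (down h T) :=
  pullbackLeftPullbackSndIso f h T.hom

theorem cmp_snd (T : Over S') :
    (cmp f h T).inv ≫ PicF.XTproj (pullback.snd f h) T = PicF.XTproj f (down h T) := by
  simp [cmp, PicF.XTproj]

theorem cmp_fst (T : Over S') :
    (cmp f h T).hom ≫ pullback.fst f (T.hom ≫ h) =
      pullback.fst (pullback.snd f h) T.hom ≫ pullback.fst f h := by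
  simp [cmp]

theorem cmp_hom_snd (T : Over S') :
    (cmp f h T).hom ≫ pullback.snd f (T.hom ≫ h) = pullback.snd (pullback.snd f h) T.hom := by
  simp [cmp]

end Groth.Agent.H17.HilbBC
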